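import Groth.Agent.ResolveCurve.Equiv
import Groth.Agent.AffNoProperComp.Main
import Groth.Agent.NormCoker.Basic
import Groth.Agent.GeomProp.NormalColim
import Groth.Agent.SepAffineGen.Main
import Groth.Agent.LocFree.SemiLocal
import Groth.Agent.C1Cap.PullGen
import Groth.Agent.Castel.Descend
import Groth.Agent.InvGen.Basic

/-!
Invertible modules on the normalization of a curve come from the curve.
-/

set_option autoImplicit false
set_option backward.isDefEq.respectTransparency false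
set_option backward.isDefEq.respectTransparency.types false
set_option linter.style.haveILetI false
set_option maxHeartbeats 1000000

universe u

open CategoryTheory CategoryTheory.Limits AlgebraicGeometry TopologicalSpace Opposite
open Groth.Agent.QC (res resO res_res res_smul resO_resO section_eq_of_locally Sub)
open TMul (IsGen)

noncomputable section

namespace Groth.Agent.PicNorm

variable {N' X : Scheme.{u}} (ν : N' ⟶ X) (M : N'.Modules)

theorem res_push {A B : X.Opens} (h : B ≤ A) (s : Γ(M, ν ⁻¹ᵁ A)) :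
    (res ((Scheme.Modules.pushforward ν).obj M) h s : Γ(M, ν ⁻¹ᵁ B)) = res M (ν.preimage_mono h) s := rfl

/-- sections of `ν_* M` which are on `W` function multiples of `g` -/
def latt (W : X.Opens) (g : Γ((Scheme.Modules.pushforward ν).obj M, W)) : Sub ((Scheme.Modules.pushforward ν).obj M) where
  obj V :=
    { carrier := {s | ∀ x ∈ V ⊓ W, ∃ (A : X.Opens) (h₁ : A ≤ V) (h₂ : A ≤ W), x ∈ A ∧
        ∃ a : Γ(X, A), res _ h₁ s = a • res _ h₂ g}
      zero_mem' := fun x hx => ⟨V ⊓ W, inf_le_left, inf_le_right, hx, 0, by rw [map_zero, zero_smul]⟩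
      add_mem' := fun {s t} hs ht x hx => by
        obtain ⟨A, hA₁, hA₂, hxA, a, ha⟩ := hs x hx
        obtain ⟨B, hB₁, hB₂, hxB, b, hb⟩ := ht x hx
        refine ⟨A ⊓ B, inf_le_left.trans hA₁, inf_le_left.trans hA₂, ⟨hxA, hxB⟩,
          resO X inf_le_left a + resO X inf_le_right b, ?_⟩
        have ha' := congrArg (res _ (inf_le_left : A ⊓ B ≤ A)) ha
        have hb' := congrArg (res _ (inf_le_right : A ⊓ B ≤ B)) hb
        rw [res_res, res_smul, res_res] at ha' hb'
        rw [map_add, add_smul, ha', hb']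
      smul_mem' := fun r s hs x hx => by
        obtain ⟨A, hA₁, hA₂, hxA, a, ha⟩ := hs x hx
        exact ⟨A, hA₁, hA₂, hxA, resO X hA₁ r * a, by rw [res_smul, ha, mul_smul]⟩ }
  res_mem {V' V} h {s} hs x hx := by
    obtain ⟨A, hA₁, hA₂, hxA, a, ha⟩ := hs x ⟨h hx.1, hx.2⟩
    refine ⟨A ⊓ V', inf_le_right, inf_le_left.trans hA₂, ⟨hxA, hx.1⟩, resO X inf_le_left a, ?_⟩
    have ha' := congrArg (res _ (inf_le_left : A ⊓ V' ≤ A)) ha
    rw [res_res, res_smul, res_res] at ha'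
    rw [res_res]
    exact ha'
  local' {V} s hs x hx := by
    obtain ⟨V', hV', hxV', hs'⟩ := hs x hx.1
    obtain ⟨A, hA₁, hA₂, hxA, a, ha⟩ := hs' x ⟨hxV', hx.2⟩
    exact ⟨A, hA₁.trans hV', hA₂, hxA, a, by rw [← res_res _ hA₁ hV']; exact ha⟩

variable {ν M}

theorem isGen_push {A : X.Opens} {e : Γ(M, ν ⁻¹ᵁ A)} (he : IsGen e)
    (hν : ∀ B ≤ A, Function.Bijective (ν.app B).hom) :
    IsGen (show Γ((Scheme.Modules.pushforward ν).obj M, A) from e) := fun B hB =>
  (he (ν ⁻¹ᵁ B) (ν.preimage_mono hB)).comp (hν B hB)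

theorem latt_all {W : X.Opens} {g : Γ((Scheme.Modules.pushforward ν).obj M, W)} {U V : X.Opens} (hV : V ≤ U)
    (hg : IsGen (show Γ(M, ν ⁻¹ᵁ W) from g))
    (hν : ∀ B ≤ U, Function.Bijective (ν.app B).hom) (s : Γ((Scheme.Modules.pushforward ν).obj M, V)) :
    s ∈ (latt ν M W g).obj V := fun x hx => by
  let B := V ⊓ W
  have hgU : IsGen (show Γ(M, ν ⁻¹ᵁ B) from res _ (inf_le_right : B ≤ W) g) := hg.res _
  obtain ⟨a, ha⟩ := (isGen_push hgU (fun C hC => hν C ((hC.trans inf_le_left).trans hV)) B le_rfl).2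
    (res _ (inf_le_left : B ≤ V) s)
  refine ⟨B, inf_le_left, inf_le_right, hx, a, ha.symm.trans ?_⟩
  exact congrArg (a • ·) (Groth.Agent.QC.res_self ((Scheme.Modules.pushforward ν).obj M) le_rfl _)

/-- an invertible module on `N'`, free over `ν ⁻¹ W`, descends when `ν` is an iso over `U` and injective on functions -/
theorem exists_descend (hM : PicF.IsInvertible M) (hinj : ∀ A : X.Opens, Function.Injective (ν.app A).hom)
    (U W : X.Opens) (hcov : ∀ x, x ∈ U ∨ x ∈ W) [IsIso (ν ∣_ U)] (g : Γ(M, ν ⁻¹ᵁ W)) (hg : IsGen g) :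
    ∃ L : X.Modules, PicF.IsInvertible L ∧ Nonempty ((Scheme.Modules.pullback ν).obj L ≅ M) := by
  have hν : ∀ B ≤ U, Function.Bijective (ν.app B).hom := fun B hB => by
    have h := ((ν ∣_ U).app (U.ι ⁻¹ᵁ B))
    have hb : Function.Bijective ((ν ∣_ U).app (U.ι ⁻¹ᵁ B)).hom := ConcreteCategory.bijective_of_isIso _
    haveI : IsIso ((ν ∣_ U).app (U.ι ⁻¹ᵁ B)) := inferInstance
    have e := morphismRestrict_app ν U (U.ι ⁻¹ᵁ B)
    rw [e] at this
    haveI : IsIso (ν.app (U.ι ''ᵁ (U.ι ⁻¹ᵁ B))) :=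
      @IsIso.of_isIso_comp_right _ _ _ _ _ _ _ inferInstance this
    have e2 : U.ι ''ᵁ (U.ι ⁻¹ᵁ B) = B := by
      rw [Scheme.Hom.image_preimage_eq_opensRange_inf, Scheme.Opens.opensRange_ι, inf_eq_right.2 hB]
    have hb2 : Function.Bijective (ν.app (U.ι ''ᵁ (U.ι ⁻¹ᵁ B))).hom := ConcreteCategory.bijective_of_isIso _
    exact e2 ▸ hb2
  let P := (Scheme.Modules.pushforward ν).obj M
  let S := latt ν M W g
  have hgenU : ∀ x ∈ U, ∃ (A : X.Opens) (e : Γ(S.toModules, A)), x ∈ A ∧ IsGen e ∧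
      IsGen (show Γ(M, ν ⁻¹ᵁ A) from S.ι.app A e) := by
    intro x hx
    obtain ⟨v, hv⟩ : ∃ v, ν v = x := ⟨((inv (ν ∣_ U)) ⟨x, hx⟩).1, by
      have h' := congrArg (fun w => U.ι w) (show ((ν ∣_ U) ((inv (ν ∣_ U)) ⟨x, hx⟩)) = (⟨x, hx⟩ : U.toScheme) by
        rw [← Scheme.Hom.comp_apply, IsIso.inv_hom_id]; rfl)
      simp only [← Scheme.Hom.comp_apply, Category.assoc, morphismRestrict_ι] at h'
      exact h'⟩
    obtain ⟨D, t, hvD, ht⟩ := TMul.exists_isGen hM v
    obtain ⟨A, hxA, hAU, hAD⟩ : ∃ A : X.Opens, x ∈ A ∧ A ≤ U ∧ ν ⁻¹ᵁ A ≤ D := by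
      refine ⟨U.ι ''ᵁ ((inv (ν ∣_ U)) ⁻¹ᵁ ((ν ⁻¹ᵁ U).ι ⁻¹ᵁ D)), ⟨⟨x, hx⟩, ?_, rfl⟩, U.ι_image_le _, ?_⟩
      · show ((inv (ν ∣_ U)) ⟨x, hx⟩).1 ∈ D
        have hvU : v ∈ ν ⁻¹ᵁ U := by show ν v ∈ U; rw [hv]; exact hx
        have : (inv (ν ∣_ U)) ⟨x, hx⟩ = ⟨v, hvU⟩ := by
          have h1 : (ν ∣_ U) ⟨v, hvU⟩ = (⟨x, hx⟩ : U.toScheme) := by
            apply U.ι.isOpenEmbedding.injective
            rw [← Scheme.Hom.comp_apply, morphismRestrict_ι]
            exact hv
          rw [← h1, ← Scheme.Hom.comp_apply, IsIso.hom_inv_id]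
          rfl
        rw [this]
        exact hvD
      · rintro w ⟨y, hy, hyw⟩
        have hwU : w ∈ ν ⁻¹ᵁ U := by show ν w ∈ U; rw [← hyw]; exact y.2
        have h1 : (ν ∣_ U) ⟨w, hwU⟩ = y := by
          apply U.ι.isOpenEmbedding.injective
          rw [← Scheme.Hom.comp_apply, morphismRestrict_ι]
          exact hyw.symm
        have h2 : (inv (ν ∣_ U)) y = ⟨w, hwU⟩ := by
          rw [← h1, ← Scheme.Hom.comp_apply, IsIso.hom_inv_id]
          rfl
        have : (inv (ν ∣_ U)) y ∈ (ν ⁻¹ᵁ U).ι ⁻¹ᵁ D := hy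
        rw [h2] at this
        exact this
    have hG : IsGen (show Γ(M, ν ⁻¹ᵁ A) from res M hAD t) := ht.res _
    have hG' : IsGen (show Γ(P, A) from res M hAD t) := isGen_push hG fun B hB => hν B (hB.trans hAU)
    obtain ⟨e, he⟩ := (S.range_ι_app A _).2 (latt_all hAU hg hν (res M hAD t))
    refine ⟨A, e, hxA, fun B hB => ?_, by rw [he]; exact hG⟩
    have hfun : (fun c : Γ(X, B) => S.ι.app B (c • res S.toModules hB e)) =
        fun c => c • res P hB (show Γ(P, A) from res M hAD t) := funext fun c => by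
      rw [Scheme.Modules.Hom.app_smul, ← Groth.Agent.QC.app_res, he]
    refine ⟨fun a b h => (hG' B hB).1 ?_, fun s => ?_⟩
    · exact (congrFun hfun a).symm.trans ((congrArg (S.ι.app B) h).trans (congrFun hfun b))
    · obtain ⟨c, hc⟩ := (hG' B hB).2 (S.ι.app B s)
      exact ⟨c, S.ι_app_injective B ((congrFun hfun c).trans hc)⟩
  have hgenW : ∃ e : Γ(S.toModules, W), IsGen e ∧ IsGen (show Γ(M, ν ⁻¹ᵁ W) from S.ι.app W e) := by
    obtain ⟨e, he⟩ := (S.range_ι_app W g).2 fun x hx => ⟨W, le_rfl, le_rfl, hx.1, 1, by rw [one_smul]⟩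
    refine ⟨e, fun B hB => ?_, by rw [he]; exact hg⟩
    have hfun : (fun c : Γ(X, B) => S.ι.app B (c • res S.toModules hB e)) =
        fun c => c • res P hB g := funext fun c => by
      rw [Scheme.Modules.Hom.app_smul, ← Groth.Agent.QC.app_res, he]
    have hinjB : ∀ (B : X.Opens) (hB : B ≤ W), Function.Injective fun c : Γ(X, B) => c • res P hB g :=
      fun B hB a b h => hinj B ((hg (ν ⁻¹ᵁ B) (ν.preimage_mono hB)).1 h)
    refine ⟨fun a b h => hinjB B hB ((congrFun hfun a).symm.trans ((congrArg (S.ι.app B) h).trans (congrFun hfun b))), fun s => ?_⟩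
    have hs : S.ι.app B s ∈ S.obj B := (S.range_ι_app B _).1 ⟨s, rfl⟩
    have hloc : ∀ x : B, ∃ (A : X.Opens) (h₁ : A ≤ B), x.1 ∈ A ∧
        ∃ a : Γ(X, A), res P h₁ (S.ι.app B s) = a • res P (h₁.trans hB) g := fun x => by
      obtain ⟨A, h₁, h₂, hxA, a, ha⟩ := hs x.1 ⟨x.2, hB x.2⟩
      exact ⟨A, h₁, hxA, a, ha⟩
    choose A hA hxA a ha using hloc
    obtain ⟨c, hc, -⟩ := X.sheaf.existsUnique_gluing' A B (fun x => homOfLE (hA x))
      (fun x hx => Opens.mem_iSup.2 ⟨⟨x, hx⟩, hxA _⟩) a (fun x y => by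
        refine hinjB (A x ⊓ A y) ((inf_le_left.trans (hA x)).trans hB) ?_
        have h1 := congrArg (res P (inf_le_left : A x ⊓ A y ≤ A x)) (ha x)
        have h2 := congrArg (res P (inf_le_right : A x ⊓ A y ≤ A y)) (ha y)
        rw [res_res, res_smul, res_res] at h1 h2
        exact h1.symm.trans h2)
    refine ⟨c, S.ι_app_injective B ((congrFun hfun c).trans (section_eq_of_locally fun x hx => ⟨A ⟨x, hx⟩, hA _, hxA _, ?_⟩))⟩
    rw [res_smul, res_res, ha]
    exact congrArg (· • _) (hc ⟨x, hx⟩)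
  have hgens : ∀ x : X, ∃ (A : X.Opens) (e : Γ(S.toModules, A)), x ∈ A ∧ IsGen e ∧
      IsGen (show Γ(M, ν ⁻¹ᵁ A) from S.ι.app A e) := fun x => by
    rcases hcov x with hx | hx
    · exact hgenU x hx
    · obtain ⟨e, he, he'⟩ := hgenW
      exact ⟨W, e, hx, he, he'⟩
  refine ⟨S.toModules, InvGen.isInvertible fun x => ?_, ?_⟩
  · obtain ⟨A, e, hx, he, -⟩ := hgens x
    exact ⟨A, e, hx, he⟩
  let adj := Scheme.Modules.pullbackPushforwardAdjunction ν
  let φ := (adj.homEquiv S.toModules M).symm S.ι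
  have hφ : ∀ (A : X.Opens) (e : Γ(S.toModules, A)),
      φ.app (ν ⁻¹ᵁ A) (ProjMor.eta ν S.toModules A e) = S.ι.app A e := fun A e => by
    have h : adj.unit.app S.toModules ≫ (Scheme.Modules.pushforward ν).map φ = S.ι := by
      exact (adj.homEquiv_unit (X := S.toModules) (f := φ)).symm.trans (Equiv.apply_symm_apply _ _)
    exact congrArg (fun q : S.toModules ⟶ (Scheme.Modules.pushforward ν).obj M => q.app A e) h
  haveI : IsIso φ := Castel.isIso_of_gens φ fun v => by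
    obtain ⟨A, e, hx, he, he'⟩ := hgens (ν v)
    exact ⟨ν ⁻¹ᵁ A, ProjMor.eta ν S.toModules A e, hx, C1Cap.isGen_eta ν he, by rw [hφ]; exact he'⟩
  exact ⟨asIso φ⟩

open TMul in
/-- a trivialisation gives a generator -/
theorem exists_isGen_of_iso {X : Scheme.{u}} {L : X.Modules} (U : X.Opens)
    (φ : L.restrict U.ι ≅ Coh.structureModule (U : Scheme.{u})) : ∃ e : Γ(L, U), IsGen e := by
  let e : Γ(L, U.ι ''ᵁ ⊤) := φ.inv.app ⊤ (1 : Γ(U, ⊤))
  suffices H : IsGen e by
    have h : U.ι ''ᵁ ⊤ = U := U.ι_image_top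
    exact ⟨res L h.ge e, H.res _⟩
  intro V hV
  have key : ∀ W : (U : Scheme.{u}).Opens,
      Function.Bijective fun c : Γ(X, U.ι ''ᵁ W) => c • res L (U.ι.image_mono le_top) e := fun W => by
    have hb : Function.Bijective (φ.inv.app W) := ConcreteCategory.bijective_of_isIso (φ.inv.app W)
    have hfun : (fun c : Γ(U, W) => φ.inv.app W c) = fun c : Γ(U, W) =>
        ((U.ι.appIso W).inv.hom c • res L (U.ι.image_mono le_top) e : Γ(L, U.ι ''ᵁ W)) := by
      funext c
      refine (app_eq_smul φ.inv c).trans ?_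
      exact congrArg (fun w : Γ(L.restrict U.ι, W) => c • w)
        (res_val φ.inv (le_top : W ≤ ⊤)).symm
    replace hb : Function.Bijective fun c : Γ(U, W) => φ.inv.app W c := hb
    rw [hfun] at hb
    exact (Function.Bijective.of_comp_iff _
      (ConcreteCategory.bijective_of_isIso (U.ι.appIso W).inv)).mp hb
  obtain ⟨W, rfl⟩ : ∃ W, U.ι ''ᵁ W = V := ⟨U.ι ⁻¹ᵁ V, by
    rw [Scheme.Hom.image_preimage_eq_opensRange_inf, inf_eq_right.mpr]
    exact hV.trans (U.ι.image_le_opensRange _)⟩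
  exact key W

theorem exists_invertible_main (k : Type u) [Field k] (X : Scheme.{u}) [X.Over (Spec (CommRingCat.of k))] [IsIntegral X]
    [IsProper (X ↘ Spec (CommRingCat.of k))] (hdim : topologicalKrullDim X = 1)
    [QuasiCompact (X.fromSpecStalk (genericPoint X))] [QuasiSeparated (X.fromSpecStalk (genericPoint X))]
    (N : (Curv2.normalization X).Modules) (hN : PicF.IsInvertible N) :
    ∃ L : X.Modules, PicF.IsInvertible L ∧ Nonempty ((Scheme.Modules.pullback (Curv2.normalizationι X)).obj L ≅ N) := by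
  let f := X ↘ Spec (CommRingCat.of k)
  haveI := CurveRR.isNoetherian_of_proper k X
  haveI : IsFinite (Curv2.normalizationι X) := NormCoker.isFinite_normalizationι X fun U => by
    have hφ : RingHom.FiniteType (f.appLE ⊤ U.1 le_top).hom :=
      HasRingHomProperty.appLE (P := @LocallyOfFiniteType) f inferInstance ⟨⊤, isAffineOpen_top _⟩ U le_top
    let φ := (Scheme.ΓSpecIso (CommRingCat.of k)).inv ≫ f.appLE ⊤ U.1 le_top
    letI : Algebra k Γ(X, U.1) := φ.hom.toAlgebra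
    haveI : Algebra.FiniteType k Γ(X, U.1) :=
      hφ.comp (RingHom.FiniteType.of_surjective _ (Scheme.ΓSpecIso (CommRingCat.of k)).commRingCatIsoToRingEquiv.symm.surjective)
    exact Nagata.isNagata_of_finiteType (R := k) (GeomProp.isN2_quotient_field k)
  let ν := Curv2.normalizationι X
  obtain ⟨U, hU, hiso⟩ := ResolveCurve.exists_iso_normalization X
  haveI := hiso
  have hη : genericPoint X ∈ U := (genericPoint_specializes hU.some).mem_open U.isOpen hU.some_mem
  have hfin : ((U : Set X)ᶜ).Finite := AffNoProperComp.finite_of_points_closed U.isOpen.isClosed_compl fun y hy =>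
    ResolveCurve.isClosed_of_ne_genericPoint hdim.le fun h => hy (h ▸ hη)
  haveI : X.IsSeparated := ⟨by rw [← terminal.comp_from f]; infer_instance⟩
  obtain ⟨O, hO, hSO⟩ := SepAffineGen.exists_affine_of_dim_le_one hfin (fun x _ => inferInstance)
    fun x _ => (RegDual.ringKrullDim_stalk_le_topologicalKrullDim x).trans hdim.le
  have hfin' : (ν ⁻¹' (U : Set X)ᶜ).Finite := hfin.preimage' fun y _ => ν.finite_preimage_singleton y
  obtain ⟨O', hSO', -, ⟨e⟩⟩ := LocFree.exists_free_nhd (r := 1) (CurveRR.isFinLocFreeOfRank_one hN) hfin'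
    (hO.preimage ν) (fun v hv => hSO hv)
  let W : X.Opens := ⟨(ν '' (O' : Set (Curv2.normalization X))ᶜ)ᶜ, (ν.isClosedMap _ O'.isOpen.isClosed_compl).isOpen_compl⟩
  have hWO : ν ⁻¹ᵁ W ≤ O' := fun v hv => by
    by_contra h
    exact hv ⟨v, h, rfl⟩
  obtain ⟨g, hg⟩ : ∃ g : Γ(N, O'), IsGen g := exists_isGen_of_iso O'
    (e ≪≫ coproductUniqueIso (fun _ : Fin 1 => Coh.structureModule (O' : Scheme.{u})))
  refine exists_descend hN (ResolveCurve.app_injective ν NormSmoothBC.ι_genericPoint) U W ?_ (res N hWO g) (hg.res _)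
  intro x
  by_cases hx : x ∈ U
  · exact Or.inl hx
  · refine Or.inr ?_
    rintro ⟨v, hv, rfl⟩
    exact hv (hSO' hx)

end Groth.Agent.PicNorm
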